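import Cfsg.Agent.OM.Sp.C5.Tool
import Cfsg.Agent.OM.Sp.OneE
import Cfsg.Agent.OM.Xc.Defs
import Cfsg.Agent.OM.Lo.N3
import Cfsg.Agent.OM.Red.ExtR
import Cfsg.Agent.S1157
import Cfsg.Agent.S2113
import Cfsg.Agent.S2127

/-!
# OM (S4894), the small Ree groups at the prime `2` (helper88)

* `n4` : defect groups of order four, outer automorphisms of odd order; `ree` : the row.
-/

set_option autoImplicit false

namespace Cfsg.Agent.OM.C3

open Cfsg Subgroup Cfsg.Agent.OM.Lo Cfsg.Agent.OM.Lo.Fix Cfsg.Agent.H649 Cfsg.Agent.OM.Gen Cfsg.Agent.Characters.Core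
  Cfsg.Agent.Blocks.Basic

theorem fix_four {G α : Type*} [Group G] [MulAction G α] [Finite α] (hc : Nat.card α ≤ 4) (h3 : ¬ 3 ∣ Nat.card α) {N : ℕ}
    (hN : Odd N) (h : ∀ (g : G) (a : α), g ^ N • a = a) : ∃ a : α, ∀ g : G, g • a = a := by
  have := Fact.mk Nat.prime_three
  have h1 : IsPGroup 3 (MulAction.toPermHom G α).range := by
    rintro ⟨_, g, rfl⟩
    have h2 : orderOf (MulAction.toPermHom G α g) ∣ N :=
      orderOf_dvd_of_pow_eq_one (by rw [← map_pow]; exact Equiv.ext (h g))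
    have h4 : orderOf (MulAction.toPermHom G α g) ∣ 2 ^ 3 * 3 :=
      (_root_.orderOf_dvd_natCard _).trans (Nat.card_perm.dvd.trans (Nat.factorial_dvd_factorial hc))
    exact ⟨1, Subtype.ext (orderOf_dvd_iff_pow_eq_one.1 (Nat.Coprime.dvd_of_dvd_mul_left
      ((Nat.coprime_two_right.2 (hN.of_dvd_nat h2)).pow_right 3) h4))⟩
  obtain ⟨a, ha⟩ := h1.nonempty_fixed_point_of_prime_not_dvd_card α h3
  exact ⟨a, fun g => ha ⟨_, g, rfl⟩⟩

variable {M : Ideal AlgInt} {X : Type} [Group X] [Finite X] {Γ : Subgroup (MulAut X)} {b : Set (IrrCharacter X)}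
  {D : Subgroup X} {S : Type} [Group S] {σ : X →* S}

/-- **defect groups of order four** -/
theorem n4 (H : Hyp 2 M Γ b D σ) (ho : Odd ((Inn X).relIndex Γ)) (h4 : Nat.card D = 4) : ∃ θ, Lift 2 Γ b θ := by
  classical
  have := Fact.mk Nat.prime_two
  have := Fintype.ofFinite X
  have := finite_irr (G := X)
  obtain ⟨l, d, φ, h⟩ := boxDec 2 M H.hM X Γ H.sit.inn b D H.hb H.hD H.one
  let i : Fin l := ⟨0, Nat.pos_of_dvd_of_pos h.dvd ho.pos⟩
  obtain ⟨n, -, -, hn⟩ := h.degree H.hM.1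
  let T : Set (IrrCharacter X) := {χ ∈ b | d χ = Pi.single i 1}
  have hT : ∀ χ, χ ∈ T ↔ χ ∈ b ∧ ∀ x, IsPRegular 2 x → (χ : X → ℂ) x = φ i x := fun χ =>
    and_congr_right fun hχ => h.single_iff hχ i
  have h1 : Nat.card T ≤ 4 ∧ ¬ 3 ∣ Nat.card T := by
    have h1 := h.row i
    rw [finsum_mem_eq_finite_toFinset_sum _ b.toFinite, h4,
      ← Finset.sum_filter_add_sum_filter_not _ fun χ => d χ = Pi.single i 1,
      Finset.sum_congr rfl (g := fun _ => 1) fun χ hχ => by simp [(Finset.mem_filter.1 hχ).2], Finset.sum_const,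
      smul_eq_mul, mul_one] at h1
    have h2 : 3 ∣ ∑ χ ∈ b.toFinite.toFinset with ¬ d χ = Pi.single i 1, d χ i * ∑ j, d χ j := Finset.dvd_sum fun χ hχ => by
      obtain ⟨h2, h3⟩ := Finset.mem_filter.1 hχ
      rw [Set.Finite.mem_toFinset] at h2
      have h5 := h.ndvd_sum H.hM H.hb H.hD h4 h2
      have h6 := (h.term_le h2 i).trans h4.le
      by_cases h7 : d χ i = 0
      · rw [h7, zero_mul]
        exact dvd_zero 3
      have h8 := (Nat.le_mul_of_pos_left _ (Nat.pos_of_ne_zero h7)).trans h6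
      have h9 : ∑ j, d χ j ≠ 1 := fun e => h3 (single_of_sum e h7)
      exact Dvd.dvd.mul_left (by omega) _
    have h3 : Nat.card T = (b.toFinite.toFinset.filter fun χ => d χ = Pi.single i 1).card := by
      rw [Nat.card_coe_set_eq, ← Set.ncard_coe_finset, Finset.coe_filter]
      exact congrArg _ (Set.ext fun χ => and_congr_left' b.toFinite.mem_toFinset.symm)
    omega
  have mem : ∀ χ ∈ T, ∀ ψ : IrrCharacter X, (∀ x, IsPRegular 2 x → (ψ : X → ℂ) x = φ i x) → ψ ∈ T := fun χ hχ ψ h =>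
    (hT ψ).2 ⟨mem_of_reg H.hM H.hb ((hT χ).1 hχ).1 fun x hx => (h x hx).trans (((hT χ).1 hχ).2 x hx).symm, h⟩
  let _ : MulAction ↥(Γ ⊓ stf 2 (φ i)) T :=
    { smul := fun α χ => ⟨irrMap (α : MulAut X) χ.1, mem _ χ.2 _ fun x hx =>
        (((hT _).1 χ.2).2 _ ((isPRegular_map_iff (α : MulAut X).symm 2 x).2 hx)).trans
          ((stf 2 (φ i)).inv_mem α.2.2 x hx)⟩
      one_smul := fun _ => rfl
      mul_smul := fun _ _ _ => rfl }
  have sm : ∀ (α : ↥(Γ ⊓ stf 2 (φ i))) (χ : T) (x : X), ((α • χ).1 : X → ℂ) x = (χ.1 : X → ℂ) ((α : MulAut X).symm x) :=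
    fun _ _ _ => rfl
  obtain ⟨θ, hθ⟩ := fix_four (G := ↥(Γ ⊓ stf 2 (φ i))) (α := T) h1.1 h1.2 ho fun α χ =>
    Subtype.ext (Subtype.ext (funext fun x => by
      obtain ⟨y, hy⟩ := (Inn X).pow_relIndex_mem α.2.1
      rw [sm, SubmonoidClass.coe_pow, ← hy, MulAut.conj_symm_apply]
      simpa using isIrr_isClassFunction χ.1.2 x y⁻¹))
  obtain ⟨t1, t2⟩ := (hT _).1 θ.2
  refine ⟨θ.1, ⟨t1, fun ψ hψ => ?_⟩, fun α hα e x => ?_, fun e => absurd rfl e, fun _ => boxExtO 2 Nat.prime_two X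
    H.sit.ndvd Γ H.sit.inn _ θ.1.2 (extO_of_inner Nat.prime_two θ.1.2 fun α hα _ ⟨k, x, hx⟩ => ?_)⟩
  · rw [hn _ t1, hn ψ hψ, θ.2.2]
    simp
  · have h5 := congrFun (congrArg (fun ψ : T => (ψ.1 : X → ℂ)) (hθ ⟨α, hα, fun y hy =>
      (t2 _ ((isPRegular_map_iff α 2 y).2 hy)).symm.trans ((e y hy).trans (t2 y hy))⟩)) (α x)
    exact h5.symm.trans (irrMap_apply' α _ x)
  · have h5 := mul_mem (zpow_mem (show α ^ 2 ^ k ∈ Inn X from ⟨x, hx.symm⟩) (Nat.gcdA (2 ^ k) ((Inn X).relIndex Γ)))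
      (zpow_mem ((Inn X).pow_relIndex_mem hα) (Nat.gcdB (2 ^ k) ((Inn X).relIndex Γ)))
    rw [← zpow_natCast, ← zpow_natCast, ← zpow_mul, ← zpow_mul, ← zpow_add, ← Nat.gcd_eq_gcd_ab,
      (Nat.coprime_two_left.2 ho).pow_left k, Nat.cast_one, zpow_one] at h5
    exact h5.imp fun _ => Eq.symm

/-- **the small Ree groups** -/
theorem ree : ∀ (F : Type) [Field F] [Fintype F] (m : ℕ), 1 ≤ m → Fintype.card F = 3 ^ (2 * m + 1) →
    CovG 3 2 (Lie.twistedG2 F (3 ^ m)) := fun F _ _ m hm hF X _ _ σ M Γ b D H _ => by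
  have := Fact.mk Nat.prime_two
  have := Finite.of_surjective σ H.surj
  obtain ⟨k, hk⟩ := H.exists_card
  rcases k with _ | k
  · exact n4 H (Odd.of_dvd_nat (odd_two_mul_add_one m) (S2127.result hm hF ▸ boxIdx 2 M X Γ b D _ σ H)) hk
  refine (Sp1.not_rt H (Nat.dvd_one.1 (H.ker ▸ H95.StemCover.card_ker_dvd_cyclic (S2113.result hm hF)
    H.sit.qs.1.commutator_eq_top σ H.surj H.ker.le)) fun r h1 h2 => ?_).elim
  obtain ⟨P, hP⟩ := (H.pg.map σ).exists_le_sylow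
  obtain ⟨h3, h4⟩ := S1157.result hm hF P
  have h5 : 2 ^ 3 ∣ Nat.card (D.map σ) := (C5.cex H).dvd_map (hk ▸ pow_dvd_pow 2 (by omega))
  obtain ⟨j, hj⟩ := P.isPGroup'.exists_card_eq
  have h6 := card_dvd_of_le (le_normalizer (H := P.toSubgroup))
  rw [h4, hj] at h6
  have h7 : j ≤ 3 := by
    by_contra h7
    exact absurd ((pow_dvd_pow 2 (by omega : 4 ≤ j)).trans h6) (by norm_num)
  have h8 : D.map σ = P := eq_of_le_of_card_ge hP
    (hj ▸ (Nat.pow_le_pow_right two_pos h7).trans (Nat.le_of_dvd Nat.card_pos h5))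
  obtain ⟨e, he⟩ := P.isPGroup' ⟨r, h3.le (mem_centralizer_iff.2 (h8 ▸ h1))⟩
  exact BHZ.Spor.eq_one_of_reg h2 (congrArg Subtype.val he)

end Cfsg.Agent.OM.C3
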