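import Cfsg.Agent.OM.Sp.C3.Tool
import Cfsg.Agent.BZ.C1.Suz
import Cfsg.Agent.BZ.C1.Fi
import Cfsg.Agent.KM.Sp.Main
import Cfsg.Agent.SuzThree.Transport

/-!
# OM (S4894), the covers `2.Suz`, `2.Fi22` (`p = 3`) and `3.Suz`, `3.Fi22` (`p = 2`) (helper88)
-/

set_option autoImplicit false
set_option maxRecDepth 100000

namespace Cfsg.Agent.OM.C3

open Cfsg Subgroup Cfsg.Agent.BHZ.Spor Cfsg.Agent.BZ Cfsg.Agent.BZ.T Cfsg.Agent.OM.C5 Cfsg.Agent.PQ.Spor
open Cfsg.Agent.TAB.Eng Cfsg.Agent.TAB.Use Cfsg.Agent.BZ.C1 Cfsg.Spor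
open Cfsg.Agent.TAB.Sm2 (mkRows)

theorem odd_of {X : Type} [Group X] {s : X} {o : ℕ} (ho : ¬ 2 ∣ o) (h : orderOf s = o) : ¬ 2 ∣ orderOf s := h ▸ ho

theorem suz_3_2 : ∀ (S : Type) [Group S] [Finite S], Spor.IsoSuz S → OM.Cov 3 2 S := fun _ _ _ ⟨e⟩ =>
  have := Fact.mk Nat.prime_two
  OM.Cov.of_equiv e fun _ _ _ _ _ _ _ _ H hc hd => (con_syl H
    (Sz.ra2 (locB H) ((cex H).dvd_map ((by decide : 2 ^ 4 ∣ Thr 2).trans hd))) SuzThree.Transport.orderOf_z0 Sz.constr_z0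
    Nat.prime_five (by norm_num) (by rw [hc]; norm_num) (by rw [SuzThree.CentCard.card_C1]; norm_num)).elim

theorem fi22_3_2 : ∀ (S : Type) [Group S] [Finite S], Spor.IsoFi22 S → OM.Cov 3 2 S := fun _ _ _ ⟨e⟩ =>
  have := Fact.mk Nat.prime_two
  OM.Cov.of_equiv e fun _ _ _ _ _ _ _ _ H hc hd => by
    have := TAB.F22.fin22
    obtain ⟨_, d, _, lift, B⟩ := KFacts.FiTT.exists_base ⟨MulEquiv.refl Fi22⟩
    have F := B.facts
    have i2 := card_mul_index (centralizer ({d * KFacts.FiTT.d2 lift} : Set Fi22))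
    rw [B.index_z, F.card] at i2
    generalize KFacts.FiTT.d2 lift = d' at F i2
    have s2 : (d * d') ^ 2 = 1 := by rw [(show Commute d d' from F.comm).mul_pow, pow_two, pow_two, F.dd, F.dd', mul_one]
    have o2 : orderOf (d * d') = 2 := orderOf_eq_prime s2 fun h => F.ne (mul_left_cancel (a := d) (F.dd.trans h.symm))
    refine (con_syl H ((bz H (nab H (KM.Sp.okFi22_2.nt tFi22 Nat.prime_two) hd)).rt_of_ra Fi.ra2) o2
      ⟨_, F.R_two, fun x hx => F.R_normal x hx.symm, fun r h3 h4 => eq_one_of_reg h4 (k := 1) ?_⟩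
      Nat.prime_five (by norm_num) (by rw [hc]; norm_num) (by omega)).elim
    rcases F.R_center r fun y hy => (h3 y hy).symm with rfl | rfl | rfl | rfl
    · exact one_pow _
    · rw [pow_one, pow_two, F.dd]
    · rw [pow_one, pow_two, F.dd']
    · exact s2

section
open Cfsg.Agent.TAB.F22 (dat rowA rowB td mass tab fin22)

theorem fi22_2_3 : ∀ (S : Type) [Group S] [Finite S], Spor.IsoFi22 S → OM.Cov 2 3 S := fun _ _ _ ⟨e⟩ =>
  have := Fact.mk Nat.prime_three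
  OM.Cov.of_equiv e fun _ _ _ _ _ _ _ _ H hc hd => by
    have := fin22
    have := Fact.mk Nat.prime_two
    obtain ⟨ν, hν⟩ := mem H ((bz H (nab H KM.Sp.fi22_3 hd)).rt_of_ra Fi.ra3)
    obtain ⟨χ, o1, h1⟩ := Comp.one_tab (ext H hc) ν tab (k := 0) (by norm_num) ![43] ![43] (by decide +kernel)
      (by decide +kernel) (by decide +kernel)
    obtain ⟨ψ, o2, h2⟩ := Comp.one_tab (ext H hc) ν tab (k := 1) (by norm_num) ![50, 51] ![50, 51] (by decide +kernel)
      (by decide +kernel) (by decide +kernel)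
    have h3 := h1 1 Comp.reg_one
    have h4 := h2 1 Comp.reg_one
    rw [map_one, show td.ty 1 = 0 from TAB.F22.ty_one] at h3 h4
    rw [show Comp.rv (mkRows rowA rowB) ((![43] : Fin 1 → ℕ) 0) 0 = (1441792 : ℕ) by decide +kernel] at h3
    rw [show Comp.rv (mkRows rowA rowB) ((![50, 51] : Fin 2 → ℕ) 0) 0 = (2555904 : ℕ) by decide +kernel] at h4
    refine absurd (pair H mass (o := 5) (by norm_num) (by rw [hc]; norm_num)
      (hν χ o1 (top_of_not_dvd H.hM (by rw [deg_eq h3]; norm_num)))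
      (hν ψ o2 ((cex H).top_of_crit H.hM Fi.reg3 ψ (by rw [deg_eq h4, mass.1]; decide +kernel)))
      (fun s hs => h1 s (odd_of (by norm_num) hs)) (fun s hs => h2 s (odd_of (by norm_num) hs)) h3 h4) (by decide +kernel)

end

section
open Cfsg.Agent.TAB.Sz (dat rowA rowB td mass tab)

theorem suz_2_3 : ∀ (S : Type) [Group S] [Finite S], Spor.IsoSuz S → OM.Cov 2 3 S := fun _ _ _ ⟨e⟩ =>
  have := Fact.mk Nat.prime_three
  OM.Cov.of_equiv e fun X _ _ _ _ _ _ _ H hc hd => by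
    have := Finite.of_surjective _ H.surj
    have := Fact.mk Nat.prime_two
    obtain ⟨ν, hν⟩ := mem H ((bz H (nab H (KM.Sp.okSuz_3.nt tSuz Nat.prime_three) hd)).rt_of_ra Sz.ra3)
    obtain ⟨Y, d, h1, h2⟩ := Comp.gram_tab (ext H hc) ν tab ![16, 24, 18, 22, 30] ![16, 24, 18, 22, 30] (by decide +kernel)
      (fun i : Fin 3 => Comp.rv (mkRows rowA rowB) ((![16, 24, 18] : Fin 3 → ℕ) i))
      ![![1, 0, 0], ![0, 1, 0], ![0, 0, 1], ![1, 0, 1], ![0, 1, 1]] (by decide +kernel) (by decide +kernel)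
    have a0 : ∑ χ ∈ Y, d χ 0 * d χ 0 = 2 := (h2 0 0).trans (by decide)
    obtain ⟨χ, hχ, h3, h4, h5⟩ := row3 Y (d · 0) (d · 1) (d · 2) a0 ((h2 1 1).trans (by decide))
      ((h2 2 2).trans (by decide)) ((h2 0 2).trans (by decide)) ((h2 1 2).trans (by decide))
    obtain ⟨ψ, hψ, h6⟩ := Finset.exists_ne_zero_of_sum_ne_zero (a0.trans_ne two_ne_zero)
    have h7 := (Finset.single_le_sum (f := fun i => d i 0 * d i 0) (fun _ _ => mul_self_nonneg _) hψ).trans_eq a0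
    have h8 : d ψ 0 = 1 ∨ d ψ 0 = -1 := by
      have h9 : -1 ≤ d ψ 0 ∧ d ψ 0 ≤ 1 := ⟨by nlinarith, by nlinarith⟩
      have h10 : d ψ 0 ≠ 0 := fun h => h6 (by rw [h, mul_zero])
      omega
    have deg : ∀ φ ∈ Y, (φ : X → ℂ) 1 = ((d φ 0 * 66560 + d φ 1 * 168960 + d φ 2 * 79872 : ℤ) : ℂ) := fun φ hφ => by
      rw [(h1 φ hφ).2 1 Comp.reg_one, map_one, Sz.ty_one, Fin.sum_univ_three,
        show Comp.rv (mkRows rowA rowB) ((![16, 24, 18] : Fin 3 → ℕ) 0) 0 = 66560 by decide +kernel,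
        show Comp.rv (mkRows rowA rowB) ((![16, 24, 18] : Fin 3 → ℕ) 1) 0 = 168960 by decide +kernel,
        show Comp.rv (mkRows rowA rowB) ((![16, 24, 18] : Fin 3 → ℕ) 2) 0 = 79872 by decide +kernel]
    have dg : ∀ φ ∈ Y, (charDegree (φ : X → ℂ) : ℤ) = d φ 0 * 66560 + d φ 1 * 168960 + d φ 2 * 79872 := fun φ hφ => by
      have h9 := deg φ hφ
      rw [Blocks.Basic.irr_one_eq_charDegree φ.2] at h9
      exact_mod_cast h9
    have b1 := dg χ hχ
    have b2 := dg ψ hψ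
    have b3 : charDegree (χ : X → ℂ) = 79872 := by omega
    have b4 := pair H mass (o := 11)
      (v := fun t => ∑ i, d χ i * Comp.rv (mkRows rowA rowB) ((![16, 24, 18] : Fin 3 → ℕ) i) t)
      (w := fun t => ∑ i, d ψ i * Comp.rv (mkRows rowA rowB) ((![16, 24, 18] : Fin 3 → ℕ) i) t) (by norm_num) (by rw [hc]; norm_num)
      (hν χ (h1 χ hχ).1 ((cex H).top_of_crit H.hM Sz.reg3 χ (by rw [b3, mass.1]; decide +kernel)))
      (hν ψ (h1 ψ hψ).1 (top_of_not_dvd H.hM (by omega)))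
      (fun s hs => (h1 χ hχ).2 s (odd_of (by norm_num) hs)) (fun s hs => (h1 ψ hψ).2 s (odd_of (by norm_num) hs))
      (deg χ hχ) (deg ψ hψ)
    have b5 : ∀ c : Fin 3 → ℤ, (∑ t ∈ Finset.range dat.n, dat.cnt t * if dat.ord t = 11 then
        ∑ i, c i * Comp.rv (mkRows rowA rowB) ((![16, 24, 18] : Fin 3 → ℕ) i) t else 0) = 40758681600 * (c 2 - c 0) :=
      fun c => by
        rw [Finset.sum_eq_single 9 (fun t ht h9 => by
          rw [if_neg ((by decide +kernel : ∀ t ∈ Finset.range dat.n, t ≠ 9 → dat.ord t ≠ 11) t ht h9), mul_zero])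
          fun h => absurd (by decide +kernel) h, if_pos (by decide +kernel), Fin.sum_univ_three,
          show Comp.rv (mkRows rowA rowB) ((![16, 24, 18] : Fin 3 → ℕ) 0) 9 = -1 by decide +kernel,
          show Comp.rv (mkRows rowA rowB) ((![16, 24, 18] : Fin 3 → ℕ) 1) 9 = 0 by decide +kernel,
          show Comp.rv (mkRows rowA rowB) ((![16, 24, 18] : Fin 3 → ℕ) 2) 9 = 1 by decide +kernel,
          show dat.cnt 9 = 40758681600 by decide +kernel]
        push_cast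
        ring
    rw [b5, b5, h3, h4, show d χ 2 = 1 by omega] at b4
    omega

end

end Cfsg.Agent.OM.C3
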