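import Cfsg.Agent.OM.Sp.C5.Tool
import Cfsg.Agent.OM.Sp.OneE
import Cfsg.Agent.BZ.C1.Gen

/-!
# OM (S4894), two companions in the block of maximal defect (helper88)

* `exists_nu`, `mem` : the central character of `b`; the members of `b` if the defect group is a Sylow subgroup;
* `ks_lift` : sums over the elements of an order prime to the order of the centre;
* `pair` : two members whose values come from a table have the same mean values.
-/

set_option autoImplicit false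
set_option linter.unusedSectionVars false

namespace Cfsg.Agent.OM.C3

open Cfsg Subgroup Cfsg.Agent.BHZ.Spor Cfsg.Agent.OM.Alt Cfsg.Agent.BZ Cfsg.Agent.BZ.T Cfsg.Agent.OM.C5
open Cfsg.Agent.TAB.Eng Cfsg.Agent.TAB.Use Cfsg.Agent.Blocks.Basic

variable {p : ℕ} [hp : Fact p.Prime] {M : Ideal AlgInt} {X : Type} [Group X] [Finite X] {Γ : Subgroup (MulAut X)}
  {b : Set (IrrCharacter X)} {D : Subgroup X} {S : Type} [Group S] {σ : X →* S}

theorem ext (H : Hyp p M Γ b D σ) {r : ℕ} (hc : Nat.card (center X) = r) : Comp.Ext r σ :=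
  ⟨H.surj, H.ker.le, IsPGroup.of_card (n := 1) (by rw [H.ker, hc, pow_one])⟩

/-- the members of the block of maximal defect -/
theorem mem (H : Hyp p M Γ b D σ) (h : RegTriv p (D.map σ)) :
    ∃ ν : σ.ker →* ℂˣ, ∀ χ : IrrCharacter X, Comp.Ov σ ν (χ : X → ℂ) → Top p M (χ : X → ℂ) → χ ∈ b := by
  have := Blocks.Local.isPrime_of_isPModular H.hM
  obtain ⟨θ, h1, h2⟩ := (cex H).max_of_rt H.hM H.hb H.hD h
  have h0 := irr_one_ne_zero θ.2
  let f : σ.ker →* ℂ :=
    { toFun := fun z => (θ : X → ℂ) z / (θ : X → ℂ) 1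
      map_one' := div_self h0
      map_mul' := fun y z => by
        rw [coe_mul, cen_mul θ.2 (H.ker.le z.2)]
        ring }
  refine ⟨f.toHomUnits, fun χ o hT => isPBlock_mem_of_sameBlock H.hb h1
    ((cex H).same H.hM ⟨_, H.pg.map σ, h⟩ (top_of_not_dvd H.hM h2) hT fun z hz => ?_)⟩
  rw [o ⟨z, hz⟩, mul_div_assoc, div_self (irr_one_ne_zero χ.2), mul_one]
  rfl

omit hp in
/-- the elements of an order prime to the order of the kernel -/
theorem ks_lift (hs : Function.Surjective σ) (hc : σ.ker ≤ center X) {o : ℕ} (ho : o.Coprime (Nat.card σ.ker))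
    {χ : X → ℂ} {φ : S → ℂ} (h : ∀ s, orderOf s = o → χ s = φ (σ s)) :
    ks {x | orderOf x = o} χ = ks {y | orderOf y = o} φ := by
  have k1 : ∀ z ∈ σ.ker, z ^ o = 1 → z = 1 := fun z hz h1 => orderOf_eq_one_iff.1
    (Nat.eq_one_of_dvd_coprimes ho (orderOf_dvd_of_pow_eq_one h1) (orderOf_dvd_natCard σ.ker hz))
  have k2 : ∀ x : X, x ^ o = 1 → orderOf (σ x) = orderOf x := fun x hx =>
    Nat.dvd_antisymm (orderOf_map_dvd σ x) (orderOf_dvd_of_pow_eq_one (k1 _
      (by rw [MonoidHom.mem_ker, map_pow, pow_orderOf_eq_one]) (by rw [← pow_mul, mul_comm, pow_mul, hx, one_pow])))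
  refine finsum_mem_eq_of_bijOn σ ⟨fun x hx => ?_, fun x hx y hy e => ?_, fun y hy => ?_⟩ h
  · exact (k2 x (hx ▸ pow_orderOf_eq_one x)).trans hx
  · have h1 : x⁻¹ * y ∈ σ.ker := by rw [MonoidHom.mem_ker, map_mul, map_inv, e, inv_mul_cancel]
    have h2 : y ^ o = x ^ o * (x⁻¹ * y) ^ o := by
      rw [← Commute.mul_pow (mem_center_iff.1 (hc h1) x), mul_inv_cancel_left]
    rw [show y ^ o = 1 from hy ▸ pow_orderOf_eq_one y, show x ^ o = 1 from hx ▸ pow_orderOf_eq_one x, one_mul] at h2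
    exact inv_mul_eq_one.1 (k1 _ h1 h2.symm)
  · obtain ⟨x, rfl⟩ := hs y
    have h1 : x ^ o ∈ σ.ker := by rw [MonoidHom.mem_ker, map_pow, ← show orderOf (σ x) = o from hy, pow_orderOf_eq_one]
    obtain ⟨k, hk⟩ := exists_pow_eq_self_of_coprime (x := σ x) (n := Nat.card σ.ker)
      ((show orderOf (σ x) = o from hy) ▸ ho.symm)
    have h2 : ((x ^ Nat.card σ.ker) ^ k) ^ o = 1 := by
      rw [← pow_mul, ← pow_mul, mul_comm, mul_comm k, pow_mul, pow_mul, pow_right_comm,
        show (x ^ o) ^ Nat.card σ.ker = 1 from congrArg Subtype.val (pow_card_eq_one' (x := (⟨_, h1⟩ : σ.ker))), one_pow]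
    have h3 : σ ((x ^ Nat.card σ.ker) ^ k) = σ x := by rw [map_pow, map_pow, hk]
    exact ⟨_, ((k2 _ h2).symm.trans (congrArg _ h3)).trans hy, h3⟩

/-- **two members of `b`** with values from a table on the elements of order `o` -/
theorem pair (H : Hyp p M Γ b D σ) {E : Dat} {T : TD S E} (hm : T.Mass) {o : ℕ} (h1 : ¬ p ∣ o)
    (h2 : o.Coprime (Nat.card (center X))) {χ ψ : IrrCharacter X} (hχ : χ ∈ b) (hψ : ψ ∈ b) {v w : ℕ → ℤ}
    (hv : ∀ s, orderOf s = o → (χ : X → ℂ) s = v (T.ty (σ s))) (hw : ∀ s, orderOf s = o → (ψ : X → ℂ) s = w (T.ty (σ s)))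
    {m n : ℤ} (hm' : (χ : X → ℂ) 1 = m) (hn : (ψ : X → ℂ) 1 = n) :
    (∑ t ∈ Finset.range E.n, E.cnt t * if E.ord t = o then v t else 0) * n =
      (∑ t ∈ Finset.range E.n, E.cnt t * if E.ord t = o then w t else 0) * m := by
  classical
  have := Finite.of_surjective σ H.surj
  have := Fintype.ofFinite S
  have key : ∀ u : ℕ → ℤ, ks {y : S | orderOf y = o} (fun y => (u (T.ty y) : ℂ)) =
      ((∑ t ∈ Finset.range E.n, E.cnt t * if E.ord t = o then u t else 0 : ℤ) : ℂ) := fun u => by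
    rw [ks_eq, Int.cast_sum]
    refine (Finset.sum_congr rfl fun g _ => ?_).trans
      ((sum_mass hm fun t => ((if E.ord t = o then u t else 0 : ℤ) : ℂ)).trans
        (Finset.sum_congr rfl fun t _ => by rw [nsmul_eq_mul, Int.cast_mul, Int.cast_natCast]))
    simp only [Set.mem_ofPred_eq, T.ord, Int.cast_ite, Int.cast_zero]
  have h3 := oneA_of_one H.one {x | orderOf x = o} (fun α x hx => (MulEquiv.orderOf_eq α x).trans hx)
    (fun x hx h4 => h1 ((show orderOf x = o from hx) ▸ h4)) χ hχ ψ hψ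
  rw [ks_lift (φ := fun y => (v (T.ty y) : ℂ)) H.surj H.ker.le (H.ker ▸ h2) hv,
    ks_lift (φ := fun y => (w (T.ty y) : ℂ)) H.surj H.ker.le (H.ker ▸ h2) hw, key, key, hm', hn] at h3
  exact_mod_cast h3

end Cfsg.Agent.OM.C3
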